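import Cfsg.Agent.H18.TEg.D.D0

/-! Generated by tools/h0/tr.py. -/

set_option maxRecDepth 100000
set_option maxHeartbeats 0

namespace H18.TE.D
open H16 H0.TR H0.Am H15.XM H15.E6 Cfsg.Lie
open scoped commutatorElement

theorem nq : allZ2 (fun k j => Nat.add (ltAll 21 (nth [] (nth [] NQ k) j)) (eqA [nth 0 σq j, k] (k :: rlW σq (nth [] (nth [] NQ k) j)))) 10 21 = true := by decide +kernel
theorem lv : allL (fun p => Nat.add (ltAll 10 p.2) (eqA [p.1] p.2)) LV = true := by decide +kernel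
theorem rc : allL (fun W => eqA W []) H16.U62.Rl = true := by decide +kernel
theorem d1 : ∀ j < 21, ltAll 21 (nth [] Y j) = 0 ∧ ∀ i < j, eqA (rlW σq (nth [] Y j ++ [i])) (rlW σq (i :: nth [] Y j)) = 0 := by decide +kernel
theorem d2 : ∀ j < 20, eqA (rlW σq (nth [] Y (j + 1) ++ [j + 1])) (rlW σq ((j + 1) :: nth [] Y (j + 1) ++ [0])) = 0 := by decide +kernel
theorem w1 : ∀ k < 9, Nat.add (ltAll 21 (nth [] W1 k)) (eqA [66, 30 + k] (rlW σq (nth [] W1 k) ++ [66])) = 0 := by decide +kernel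
theorem m3 : ∀ i < 9, (30 ≤ (nth (0, 0) sel i).1 ∧ (nth (0, 0) sel i).1 < 39 ∧ 10 ≤ (nth (0, 0) sel i).2 ∧ (nth (0, 0) sel i).2 < 29) ∧ ltAll 53 (nth [] M.y3_W (i + 1)) = 0 ∧ orZ (eqA (nth [] M.y3_W (i + 1)) (cw (nth (0, 0) sel i))) (eqA (nth [] M.y3_W (i + 1)) (cw (nth (0, 0) sel i) ++ [53])) = 0 := by decide +kernel
theorem cs : ∀ k < 65, 10 ≤ k → k ≠ 29 → k ≠ 54 → k ≠ 58 → eqA [k, 10] [10, k] = 0 := by decide +kernel
theorem pw : ∀ i < 3, eqA [nth 0 [52, 45, 47] i] (nth [] U.p_W i) = 0 := by decide +kernel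
theorem qc : ltAll 10 E = 0 ∧ ∀ j < 21, ltAll 21 (nth [] UQ j) = 0 ∧ orZ (eqA (E ++ rlW σq (nth [] UQ j)) (rlW σq (nth [] UQ j) ++ E ++ [nth 0 σq j])) (eqA (E ++ rlW σq (nth [] UQ j)) (rlW σq (nth [] UQ j) ++ E ++ [53, nth 0 σq j])) = 0 := by decide +kernel
theorem hn : ∀ j < 7, Nat.add (ltAll 7 (nth [] HW j)) (eqA [nth 0 σu j, 55] (55 :: rlW σu (nth [] HW j))) = 0 := by decide +kernel
theorem h1 : (Nat.blt 5 1782 && fixLetters M.P 0 5 && Nat.beq (ltAll 53 [nat_lit 1, nat_lit 8, nat_lit 4, nat_lit 7, nat_lit 1, nat_lit 7, nat_lit 5, nat_lit 1, nat_lit 8, nat_lit 3, nat_lit 8]) 0 && !Nat.beq (apW M.P [nat_lit 1, nat_lit 8, nat_lit 4, nat_lit 7, nat_lit 1, nat_lit 7, nat_lit 5, nat_lit 1, nat_lit 8, nat_lit 3, nat_lit 8] 5) 5) = true ∧ eqA [55] [nat_lit 1, nat_lit 8, nat_lit 4, nat_lit 7, nat_lit 1, nat_lit 7, nat_lit 5, nat_lit 1, nat_lit 8, nat_lit 3, nat_lit 8] = 0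 := by decide +kernel
theorem eqs : allL (fun p => eqA p.1 p.2) EQ = true := by decide +kernel
theorem od : ∀ k ∈ [45, 47, 49, 50], eqA (List.replicate 105 k) [] = 0 ∧ eqA [66, k] [k, 66] = 0 ∧ eqA [29, k] [k, 29] = 0 := by decide +kernel
theorem r71 : chevE6.x (ZMod 2) 71 1 = mat IG (ZMod 2) x71 := by decide +kernel

end H18.TE.D
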