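import Cfsg.Agent.H18.TEg.D.D0

/-! Generated by tools/h0/tr.py. -/

set_option maxRecDepth 100000
set_option maxHeartbeats 0

namespace H18.TE.D
open H16 H0.TR H0.Am H15.XM H15.E6 Cfsg.Lie
open scoped commutatorElement

theorem r55 : chevE6.x (ZMod 2) 55 1 = mat IG (ZMod 2) x55 := by decide +kernel
theorem r65 : chevE6.x (ZMod 2) 65 1 = mat IG (ZMod 2) x65 := by decide +kernel

end H18.TE.D
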