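import Cfsg.Agent.H18.TEg.D.D0

/-! Generated by tools/h0/tr.py. -/

set_option maxRecDepth 100000
set_option maxHeartbeats 0

namespace H18.TE.D
open H16 H0.TR H0.Am H15.XM H15.E6 Cfsg.Lie
open scoped commutatorElement

theorem r67 : chevE6.x (ZMod 2) 67 1 = mat IG (ZMod 2) x67 := by decide +kernel
theorem rr : ne2 (x71, 0) a53 = 0 ∧ ne2 (mul2 78 (msk 78 78) (x68, 0) (x66, 0)) a12 = 0 ∧ ne2 (mul2 78 (msk 78 78) (x55, 0) (mul2 78 (msk 78 78) (x65, 0) (x67, 0))) (mul2 78 (msk 78 78) a15 a14) = 0 := by decide +kernel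

end H18.TE.D
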