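import Cfsg.Agent.H18.TEg.D.D0

/-! Generated by tools/h0/tr.py. -/

set_option maxRecDepth 100000
set_option maxHeartbeats 0

namespace H18.TE.D
open H16 H0.TR H0.Am H15.XM H15.E6 Cfsg.Lie
open scoped commutatorElement

theorem dc0 : allZ (fun k => Nat.add (ltAll 16 (nth [] AW k)) (ne2 (ev 78 (msk 78 78) e1 CG (nth [] AW k)) (nth (0, 0) AC k))) 0 10 = true := by decide +kernel
theorem dc1 : allZ (fun k => Nat.add (ltAll 16 (nth [] AW k)) (ne2 (ev 78 (msk 78 78) e1 CG (nth [] AW k)) (nth (0, 0) AC k))) 10 10 = true := by decide +kernel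
theorem dc2 : allZ (fun k => Nat.add (ltAll 16 (nth [] AW k)) (ne2 (ev 78 (msk 78 78) e1 CG (nth [] AW k)) (nth (0, 0) AC k))) 20 10 = true := by decide +kernel
theorem dc3 : allZ (fun k => Nat.add (ltAll 16 (nth [] AW k)) (ne2 (ev 78 (msk 78 78) e1 CG (nth [] AW k)) (nth (0, 0) AC k))) 30 10 = true := by decide +kernel
theorem dc4 : allZ (fun k => Nat.add (ltAll 16 (nth [] AW k)) (ne2 (ev 78 (msk 78 78) e1 CG (nth [] AW k)) (nth (0, 0) AC k))) 40 10 = true := by decide +kernel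
theorem dc5 : allZ (fun k => Nat.add (ltAll 16 (nth [] AW k)) (ne2 (ev 78 (msk 78 78) e1 CG (nth [] AW k)) (nth (0, 0) AC k))) 50 10 = true := by decide +kernel
theorem dc6 : allZ (fun k => Nat.add (ltAll 16 (nth [] AW k)) (ne2 (ev 78 (msk 78 78) e1 CG (nth [] AW k)) (nth (0, 0) AC k))) 60 7 = true := by decide +kernel
theorem ac_0_0 : allZ (aEnt AC T M.P 1782 (nat_lit 0)) (nat_lit 0) (nat_lit 23) = true := by decide +kernel
theorem ac_1_0 : allZ (aEnt AC T M.P 1782 (nat_lit 1)) (nat_lit 0) (nat_lit 23) = true := by decide +kernel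
theorem ac_2_0 : allZ (aEnt AC T M.P 1782 (nat_lit 2)) (nat_lit 0) (nat_lit 23) = true := by decide +kernel
theorem ac_3_0 : allZ (aEnt AC T M.P 1782 (nat_lit 3)) (nat_lit 0) (nat_lit 23) = true := by decide +kernel
theorem ac_4_0 : allZ (aEnt AC T M.P 1782 (nat_lit 4)) (nat_lit 0) (nat_lit 23) = true := by decide +kernel
theorem ac_5_0 : allZ (aEnt AC T M.P 1782 (nat_lit 5)) (nat_lit 0) (nat_lit 23) = true := by decide +kernel
theorem ac_6_0 : allZ (aEnt AC T M.P 1782 (nat_lit 6)) (nat_lit 0) (nat_lit 23) = true := by decide +kernel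
theorem ac_7_0 : allZ (aEnt AC T M.P 1782 (nat_lit 7)) (nat_lit 0) (nat_lit 23) = true := by decide +kernel
theorem ac_8_0 : allZ (aEnt AC T M.P 1782 (nat_lit 8)) (nat_lit 0) (nat_lit 23) = true := by decide +kernel
theorem ac_9_0 : allZ (aEnt AC T M.P 1782 (nat_lit 9)) (nat_lit 0) (nat_lit 23) = true := by decide +kernel
theorem ac_10_0 : allZ (aEnt AC T M.P 1782 (nat_lit 10)) (nat_lit 0) (nat_lit 23) = true := by decide +kernel
theorem ac_11_0 : allZ (aEnt AC T M.P 1782 (nat_lit 11)) (nat_lit 0) (nat_lit 23) = true := by decide +kernel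
theorem ac_12_0 : allZ (aEnt AC T M.P 1782 (nat_lit 12)) (nat_lit 0) (nat_lit 23) = true := by decide +kernel
theorem ac_13_0 : allZ (aEnt AC T M.P 1782 (nat_lit 13)) (nat_lit 0) (nat_lit 23) = true := by decide +kernel
theorem ac_14_0 : allZ (aEnt AC T M.P 1782 (nat_lit 14)) (nat_lit 0) (nat_lit 23) = true := by decide +kernel
theorem ac_15_0 : allZ (aEnt AC T M.P 1782 (nat_lit 15)) (nat_lit 0) (nat_lit 23) = true := by decide +kernel
theorem ac_16_0 : allZ (aEnt AC T M.P 1782 (nat_lit 16)) (nat_lit 0) (nat_lit 23) = true := by decide +kernel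
theorem ac_17_0 : allZ (aEnt AC T M.P 1782 (nat_lit 17)) (nat_lit 0) (nat_lit 23) = true := by decide +kernel
theorem ac_18_0 : allZ (aEnt AC T M.P 1782 (nat_lit 18)) (nat_lit 0) (nat_lit 23) = true := by decide +kernel
theorem ac_19_0 : allZ (aEnt AC T M.P 1782 (nat_lit 19)) (nat_lit 0) (nat_lit 23) = true := by decide +kernel
theorem ac_20_0 : allZ (aEnt AC T M.P 1782 (nat_lit 20)) (nat_lit 0) (nat_lit 23) = true := by decide +kernel
theorem ac_21_0 : allZ (aEnt AC T M.P 1782 (nat_lit 21)) (nat_lit 0) (nat_lit 23) = true := by decide +kernel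
theorem ac_22_0 : allZ (aEnt AC T M.P 1782 (nat_lit 22)) (nat_lit 0) (nat_lit 23) = true := by decide +kernel
theorem ac_23_0 : allZ (aEnt AC T M.P 1782 (nat_lit 23)) (nat_lit 0) (nat_lit 23) = true := by decide +kernel
theorem ac_24_0 : allZ (aEnt AC T M.P 1782 (nat_lit 24)) (nat_lit 0) (nat_lit 23) = true := by decide +kernel
theorem ac_25_0 : allZ (aEnt AC T M.P 1782 (nat_lit 25)) (nat_lit 0) (nat_lit 23) = true := by decide +kernel
theorem ac_26_0 : allZ (aEnt AC T M.P 1782 (nat_lit 26)) (nat_lit 0) (nat_lit 23) = true := by decide +kernel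
theorem ac_27_0 : allZ (aEnt AC T M.P 1782 (nat_lit 27)) (nat_lit 0) (nat_lit 23) = true := by decide +kernel
theorem ac_28_0 : allZ (aEnt AC T M.P 1782 (nat_lit 28)) (nat_lit 0) (nat_lit 23) = true := by decide +kernel
theorem ac_29_0 : allZ (aEnt AC T M.P 1782 (nat_lit 29)) (nat_lit 0) (nat_lit 23) = true := by decide +kernel
theorem ac_30_0 : allZ (aEnt AC T M.P 1782 (nat_lit 30)) (nat_lit 0) (nat_lit 23) = true := by decide +kernel
theorem ac_31_0 : allZ (aEnt AC T M.P 1782 (nat_lit 31)) (nat_lit 0) (nat_lit 23) = true := by decide +kernel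
theorem ac_32_0 : allZ (aEnt AC T M.P 1782 (nat_lit 32)) (nat_lit 0) (nat_lit 23) = true := by decide +kernel
theorem ac_33_0 : allZ (aEnt AC T M.P 1782 (nat_lit 33)) (nat_lit 0) (nat_lit 23) = true := by decide +kernel
theorem ac_34_0 : allZ (aEnt AC T M.P 1782 (nat_lit 34)) (nat_lit 0) (nat_lit 23) = true := by decide +kernel
theorem ac_35_0 : allZ (aEnt AC T M.P 1782 (nat_lit 35)) (nat_lit 0) (nat_lit 23) = true := by decide +kernel
theorem ac_36_0 : allZ (aEnt AC T M.P 1782 (nat_lit 36)) (nat_lit 0) (nat_lit 23) = true := by decide +kernel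
theorem ac_37_0 : allZ (aEnt AC T M.P 1782 (nat_lit 37)) (nat_lit 0) (nat_lit 23) = true := by decide +kernel
theorem ac_38_0 : allZ (aEnt AC T M.P 1782 (nat_lit 38)) (nat_lit 0) (nat_lit 23) = true := by decide +kernel
theorem ac_39_0 : allZ (aEnt AC T M.P 1782 (nat_lit 39)) (nat_lit 0) (nat_lit 23) = true := by decide +kernel
theorem ac_40_0 : allZ (aEnt AC T M.P 1782 (nat_lit 40)) (nat_lit 0) (nat_lit 23) = true := by decide +kernel
theorem ac_41_0 : allZ (aEnt AC T M.P 1782 (nat_lit 41)) (nat_lit 0) (nat_lit 23) = true := by decide +kernel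
theorem ac_42_0 : allZ (aEnt AC T M.P 1782 (nat_lit 42)) (nat_lit 0) (nat_lit 23) = true := by decide +kernel
theorem ac_43_0 : allZ (aEnt AC T M.P 1782 (nat_lit 43)) (nat_lit 0) (nat_lit 23) = true := by decide +kernel
theorem ac_44_0 : allZ (aEnt AC T M.P 1782 (nat_lit 44)) (nat_lit 0) (nat_lit 23) = true := by decide +kernel
theorem ac_45_0 : allZ (aEnt AC T M.P 1782 (nat_lit 45)) (nat_lit 0) (nat_lit 23) = true := by decide +kernel
theorem ac_46_0 : allZ (aEnt AC T M.P 1782 (nat_lit 46)) (nat_lit 0) (nat_lit 23) = true := by decide +kernel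
theorem ac_47_0 : allZ (aEnt AC T M.P 1782 (nat_lit 47)) (nat_lit 0) (nat_lit 23) = true := by decide +kernel
theorem ac_48_0 : allZ (aEnt AC T M.P 1782 (nat_lit 48)) (nat_lit 0) (nat_lit 23) = true := by decide +kernel
theorem ac_49_0 : allZ (aEnt AC T M.P 1782 (nat_lit 49)) (nat_lit 0) (nat_lit 23) = true := by decide +kernel
theorem ac_50_0 : allZ (aEnt AC T M.P 1782 (nat_lit 50)) (nat_lit 0) (nat_lit 23) = true := by decide +kernel
theorem ac_51_0 : allZ (aEnt AC T M.P 1782 (nat_lit 51)) (nat_lit 0) (nat_lit 23) = true := by decide +kernel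
theorem ac_52_0 : allZ (aEnt AC T M.P 1782 (nat_lit 52)) (nat_lit 0) (nat_lit 23) = true := by decide +kernel
theorem ic_0 : allZ (iEnt T) (nat_lit 0) (nat_lit 1781) = true := by decide +kernel
theorem zf : ∀ b < 23, ne2 (mul2 78 (msk 78 78) a53 (nth (0, 0) T b)) (nth (0, 0) T b) = 0 := by decide +kernel
theorem cz : ∀ k < 65, eqA [k, 53] [53, k] = 0 := by decide +kernel
theorem sq : ∀ k < 67, 10 ≤ k ∧ k < 45 ∨ k = 53 ∨ k = 54 ∨ k = 66 → eqA [k, k] [] = 0 := by decide +kernel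
theorem es : allZ2 (fun j i => orZ (eqA [nth 0 σq j, nth 0 σq i] [nth 0 σq i, nth 0 σq j]) (eqA [nth 0 σq j, nth 0 σq i] [nth 0 σq i, nth 0 σq j, 53])) 21 21 = true := by decide +kernel

end H18.TE.D
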